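import Mathlib.RingTheory.Localization.FractionRing
import Mathlib.RingTheory.Ideal.MinimalPrime.Localization
import Mathlib.RingTheory.Ideal.MinimalPrime.Noetherian
import Mathlib.RingTheory.IntegralClosure.IsIntegralClosure.Basic
import Mathlib.RingTheory.IntegralClosure.IntegrallyClosed
import Mathlib.RingTheory.Localization.AtPrime.Basic
import Mathlib.RingTheory.Finiteness.Finsupp
import Mathlib.RingTheory.Finiteness.Basic
import Mathlib.RingTheory.LocalRing.Basic

/-!
# The normalization of a reduced Noetherian ring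

The total ring of fractions of a reduced Noetherian ring is the product of the fraction fields of
its irreducible components, and the integral closure in it is the product of their integral
closures.
-/

namespace Groth.Agent.RedNorm

universe u

variable (A : Type u) [CommRing A]

/-- The minimal primes. -/
abbrev MinP := {p : Ideal A // p ∈ minimalPrimes A}

instance (p : MinP A) : p.1.IsPrime := p.2.1.1

instance [IsNoetherianRing A] : Finite (MinP A) :=
  (minimalPrimes.finite_of_isNoetherianRing A).to_subtype

variable {A}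

theorem eq_zero_of_forall_mem [IsReduced A] {x : A} (h : ∀ p : MinP A, x ∈ p.1) : x = 0 := by
  have : x ∈ sInf (minimalPrimes A) := Submodule.mem_sInf.2 fun p hp => h ⟨p, hp⟩
  rwa [minimalPrimes, Ideal.sInf_minimalPrimes, Ideal.radical_bot_of_isReduced, Ideal.mem_bot] at this

theorem mem_nonZeroDivisors_iff [IsReduced A] {x : A} :
    x ∈ nonZeroDivisors A ↔ ∀ p : MinP A, x ∉ p.1 := by
  refine ⟨fun h p => Set.disjoint_left.1 (Ideal.disjoint_nonZeroDivisors_of_mem_minimalPrimes p.2).symm h,
    fun h => mem_nonZeroDivisors_iff_right.2 fun y hy => eq_zero_of_forall_mem fun p => ?_⟩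
  exact (p.2.1.1.mem_or_mem (hy ▸ p.1.zero_mem : y * x ∈ p.1)).resolve_right (h p)

variable (A)

/-- The product of the fraction fields of the irreducible components. -/
abbrev PiK := ∀ p : MinP A, FractionRing (A ⧸ p.1)

variable [IsReduced A]

theorem algebraMap_ne_zero_iff (p : MinP A) (x : A) :
    algebraMap A (FractionRing (A ⧸ p.1)) x ≠ 0 ↔ x ∉ p.1 := by
  rw [IsScalarTower.algebraMap_apply A (A ⧸ p.1) (FractionRing (A ⧸ p.1)), ne_eq,
    IsFractionRing.to_map_eq_zero_iff, Ideal.Quotient.algebraMap_eq, Ideal.Quotient.eq_zero_iff_mem]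

/-- The total ring of fractions maps to the product of the fraction fields of the components. -/
noncomputable def toPi : FractionRing A →ₐ[A] PiK A :=
  IsLocalization.liftAlgHom (M := nonZeroDivisors A) (f := Algebra.ofId A (PiK A)) fun y =>
    isUnit_iff_exists_inv.2 ⟨fun p => (algebraMap A (FractionRing (A ⧸ p.1)) (y : A))⁻¹,
      funext fun p => mul_inv_cancel₀
        ((algebraMap_ne_zero_iff A p y).2 (mem_nonZeroDivisors_iff.1 y.2 p))⟩

theorem toPi_mk' (a : A) (s : nonZeroDivisors A) (p : MinP A) :
    toPi A (IsLocalization.mk' (FractionRing A) a s) p * algebraMap A (FractionRing (A ⧸ p.1)) s =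
      algebraMap A (FractionRing (A ⧸ p.1)) a := by
  have h := congrArg (toPi A) (IsLocalization.mk'_spec (FractionRing A) a s)
  rw [map_mul, AlgHom.commutes, AlgHom.commutes] at h
  exact congrFun h p

theorem toPi_algebraMap (a : A) (p : MinP A) :
    toPi A (algebraMap A (FractionRing A) a) p = algebraMap A (FractionRing (A ⧸ p.1)) a :=
  congrFun ((toPi A).commutes a) p

theorem toPi_injective : Function.Injective (toPi A) := by
  rw [injective_iff_map_eq_zero]
  intro z hz
  obtain ⟨a, s, rfl⟩ := IsLocalization.exists_mk'_eq (nonZeroDivisors A) z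
  have : a = 0 := eq_zero_of_forall_mem fun p => by
    by_contra hp
    refine (algebraMap_ne_zero_iff A p a).2 hp ?_
    rw [← toPi_mk' A a s p, hz, Pi.zero_apply, zero_mul]
  rw [this, IsLocalization.mk'_zero]

theorem toPi_surjective [IsNoetherianRing A] : Function.Surjective (toPi A) := by
  classical
  have := Fintype.ofFinite (MinP A)
  have hsep : ∀ p : MinP A, ∃ x, x ∉ p.1 ∧ ∀ q : MinP A, q ≠ p → x ∈ q.1 := fun p => by
    have : ∀ q : MinP A, ∃ x, x ∉ p.1 ∧ (q ≠ p → x ∈ q.1) := fun q => by
      by_cases h : q = p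
      · exact ⟨1, (Ideal.ne_top_iff_one _).1 p.2.1.1.ne_top, fun h' => absurd h h'⟩
      · obtain ⟨x, hxq, hxp⟩ := SetLike.not_le_iff_exists.1 fun hle : q.1 ≤ p.1 =>
          h (Subtype.ext (le_antisymm hle (p.2.2 q.2.1 hle)))
        exact ⟨x, hxp, fun _ => hxq⟩
    choose x hx hx' using this
    refine ⟨∏ q, x q, fun hmem => ?_, fun q hq => ?_⟩
    · obtain ⟨q, -, hq⟩ := p.2.1.1.prod_mem_iff.1 hmem
      exact hx q hq
    · exact Ideal.mem_of_dvd _ (Finset.dvd_prod_of_mem x (Finset.mem_univ q)) (hx' q hq)
  choose s hs hs' using hsep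
  intro z
  have : ∀ p : MinP A, ∃ a b : A, b ∉ p.1 ∧
      z p * algebraMap A _ b = algebraMap A (FractionRing (A ⧸ p.1)) a := fun p => by
    obtain ⟨⟨a, b⟩, h⟩ := IsLocalization.surj (nonZeroDivisors (A ⧸ p.1)) (z p)
    obtain ⟨a', ha'⟩ := Ideal.Quotient.mk_surjective a
    obtain ⟨b', hb'⟩ := Ideal.Quotient.mk_surjective (b : A ⧸ p.1)
    refine ⟨a', b', fun hb => nonZeroDivisors.ne_zero b.2
      (hb' ▸ Ideal.Quotient.eq_zero_iff_mem.2 hb), ?_⟩
    rw [IsScalarTower.algebraMap_apply A (A ⧸ p.1) (FractionRing (A ⧸ p.1)),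
      IsScalarTower.algebraMap_apply A (A ⧸ p.1) (FractionRing (A ⧸ p.1)) a',
      Ideal.Quotient.algebraMap_eq, hb', ha']
    exact h
  choose a b hb hab using this
  have hsum : ∀ (f : MinP A → A) (p : MinP A),
      algebraMap A (FractionRing (A ⧸ p.1)) (∑ q, f q * s q) =
        algebraMap A _ (f p) * algebraMap A _ (s p) := fun f p => by
    rw [map_sum, Finset.sum_eq_single p, map_mul]
    · intro q _ hq
      rw [map_mul]
      refine mul_eq_zero_of_right _ ?_
      by_contra h
      exact (algebraMap_ne_zero_iff A p (s q)).1 h (hs' q p (Ne.symm hq))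
    · intro h; exact absurd (Finset.mem_univ p) h
  have hD : ∑ q, b q * s q ∈ nonZeroDivisors A := mem_nonZeroDivisors_iff.2 fun p => by
    rw [← algebraMap_ne_zero_iff, hsum]
    exact mul_ne_zero ((algebraMap_ne_zero_iff A p _).2 (hb p)) ((algebraMap_ne_zero_iff A p _).2 (hs p))
  refine ⟨IsLocalization.mk' _ (∑ q, a q * s q) ⟨_, hD⟩, funext fun p => ?_⟩
  have h := toPi_mk' A (∑ q, a q * s q) ⟨_, hD⟩ p
  rw [hsum b p, hsum a p, ← hab p] at h
  have hne : algebraMap A (FractionRing (A ⧸ p.1)) (b p) * algebraMap A _ (s p) ≠ 0 :=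
    mul_ne_zero ((algebraMap_ne_zero_iff A p _).2 (hb p)) ((algebraMap_ne_zero_iff A p _).2 (hs p))
  exact mul_right_cancel₀ hne (h.trans (mul_assoc _ _ _))

/-- The normalization. -/
abbrev Norm := integralClosure A (FractionRing A)

/-- The normalization of one component. -/
abbrev NormC (p : MinP A) := integralClosure A (FractionRing (A ⧸ p.1))

/-- Projection of the normalization to the normalization of a component. -/
noncomputable def proj (p : MinP A) : Norm A →ₐ[A] NormC A p :=
  (((Pi.evalAlgHom A _ p).comp (toPi A)).comp (Norm A).val).codRestrict (NormC A p) fun x =>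
    (x.2 : IsIntegral A (x : FractionRing A)).map ((Pi.evalAlgHom A _ p).comp (toPi A))

theorem isIntegral_pi {z : PiK A} [IsNoetherianRing A] (h : ∀ p, IsIntegral A (z p)) :
    IsIntegral A z := by
  classical
  have := Fintype.ofFinite (MinP A)
  choose f hf hf' using h
  refine ⟨∏ p, f p, Polynomial.monic_prod_of_monic _ _ fun p _ => hf p, funext fun p => ?_⟩
  have h2 : Pi.evalAlgHom A (fun q : MinP A => FractionRing (A ⧸ q.1)) p
      (Polynomial.aeval z (∏ q, f q)) = Polynomial.aeval (z p) (∏ q, f q) :=
    (Polynomial.aeval_algHom_apply _ _ _).symm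
  show Polynomial.aeval z (∏ q, f q) p = 0
  rw [show Polynomial.aeval z (∏ q, f q) p = Polynomial.aeval (z p) (∏ q, f q) from h2, map_prod]
  exact Finset.prod_eq_zero (Finset.mem_univ p) (hf' p)

/-- The idempotent of a component, in the normalization. -/
theorem exists_idem [IsNoetherianRing A] (p : MinP A) : ∃ e : Norm A,
    proj A p e = 1 ∧ ∀ q, q ≠ p → proj A q e = 0 := by
  classical
  obtain ⟨e, he⟩ := toPi_surjective A (Pi.single p 1)
  have hint : IsIntegral A e := by
    rw [← isIntegral_algHom_iff (toPi A) (toPi_injective A), he]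
    refine isIntegral_pi A fun q => ?_
    by_cases h : q = p
    · subst h; rw [Pi.single_eq_same]; exact isIntegral_one
    · rw [Pi.single_eq_of_ne h]; exact isIntegral_zero
  refine ⟨⟨e, hint⟩, Subtype.ext ?_, fun q hq => Subtype.ext ?_⟩
  · show toPi A e p = 1
    rw [he, Pi.single_eq_same]
  · show toPi A e q = 0
    rw [he, Pi.single_eq_of_ne hq]

theorem proj_ext {x y : Norm A} (h : ∀ p, proj A p x = proj A p y) : x = y :=
  Subtype.ext (toPi_injective A (funext fun p => congrArg Subtype.val (h p)))

theorem proj_surjective [IsNoetherianRing A] (p : MinP A) : Function.Surjective (proj A p) := by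
  classical
  intro n
  obtain ⟨z, hz⟩ := toPi_surjective A (Pi.single p (n : FractionRing (A ⧸ p.1)))
  have hint : IsIntegral A z := by
    rw [← isIntegral_algHom_iff (toPi A) (toPi_injective A), hz]
    refine isIntegral_pi A fun q => ?_
    by_cases h : q = p
    · subst h; rw [Pi.single_eq_same]; exact n.2
    · rw [Pi.single_eq_of_ne h]; exact isIntegral_zero
  refine ⟨⟨z, hint⟩, Subtype.ext ?_⟩
  show toPi A z p = _
  rw [hz, Pi.single_eq_same]

theorem isFractionRing_normC (p : MinP A) : IsFractionRing (NormC A p) (FractionRing (A ⧸ p.1)) := by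
  refine IsFractionRing.of_field _ _ fun z => ?_
  obtain ⟨x, y, -, rfl⟩ := IsFractionRing.div_surjective (A := A ⧸ p.1) z
  obtain ⟨x, rfl⟩ := Ideal.Quotient.mk_surjective x
  obtain ⟨y, rfl⟩ := Ideal.Quotient.mk_surjective y
  exact ⟨algebraMap A _ x, algebraMap A _ y, rfl⟩

theorem isIntegrallyClosed_normC (p : MinP A) : IsIntegrallyClosed (NormC A p) := by
  have := isFractionRing_normC A p
  refine (isIntegrallyClosed_iff (FractionRing (A ⧸ p.1))).2 fun {x} hx => ?_
  exact ⟨⟨x, isIntegral_trans x hx⟩, rfl⟩

/-- The localizations of the normalization are normal domains. -/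
theorem localization_norm [IsNoetherianRing A] (P : Ideal (Norm A)) [P.IsPrime] :
    IsDomain (Localization.AtPrime P) ∧ IsIntegrallyClosed (Localization.AtPrime P) := by
  classical
  have := Fintype.ofFinite (MinP A)
  choose e he he' using exists_idem A
  have h1 : ∑ p, e p = 1 := proj_ext A fun q => by
    rw [map_sum, map_one, Finset.sum_eq_single q (fun p _ hp => he' p q (Ne.symm hp))
      (fun h => absurd (Finset.mem_univ q) h), he]
  obtain ⟨p, hp⟩ : ∃ p, e p ∉ P := by
    by_contra! h
    exact ‹P.IsPrime›.ne_top ((Ideal.eq_top_iff_one _).2 (h1 ▸ P.sum_mem fun p _ => h p))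
  have hker : ∀ x, proj A p x = 0 → e p * x = 0 := fun x hx => proj_ext A fun q => by
    rw [map_mul, map_zero]
    by_cases h : q = p
    · subst h; rw [hx, mul_zero]
    · rw [he' p q h, zero_mul]
  let π : Norm A →+* NormC A p := (proj A p).toRingHom
  have hπ : Function.Surjective π := proj_surjective A p
  have hkle : RingHom.ker π ≤ P := fun x hx =>
    (‹P.IsPrime›.mem_or_mem (show e p * x ∈ P by rw [hker x hx]; exact P.zero_mem)).resolve_left hp
  have hQ : (P.map π).IsPrime := Ideal.map_isPrime_of_surjective hπ hkle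
  have hc : (P.map π).comap π = P := by
    rw [Ideal.comap_map_of_surjective π hπ, sup_eq_left.2]
    rwa [← RingHom.ker_eq_comap_bot]
  let R := Localization.AtPrime (P.map π)
  let : Algebra (Norm A) R := ((algebraMap (NormC A p) R).comp π).toAlgebra
  have : IsLocalization.AtPrime R P := by
    refine { map_units := ?_, surj := ?_, exists_of_eq := ?_ }
    · rintro ⟨x, hx⟩
      exact IsLocalization.map_units R (⟨π x, fun h => hx (hc ▸ h)⟩ : (P.map π).primeCompl)
    · intro z
      obtain ⟨⟨a, ⟨s, hs⟩⟩, h⟩ := IsLocalization.surj (P.map π).primeCompl z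
      obtain ⟨a, rfl⟩ := hπ a
      obtain ⟨s, rfl⟩ := hπ s
      exact ⟨(a, ⟨s, fun h' => hs (Ideal.mem_map_of_mem π h')⟩), h⟩
    · intro x y hxy
      obtain ⟨⟨c, hc'⟩, hcxy⟩ :=
        (IsLocalization.eq_iff_exists (P.map π).primeCompl R).1 (hxy : algebraMap _ R (π x) = algebraMap _ R (π y))
      obtain ⟨c, rfl⟩ := hπ c
      refine ⟨⟨e p * c, fun h' => (‹P.IsPrime›.mem_or_mem h').elim hp fun h'' => hc'
        (Ideal.mem_map_of_mem π h'')⟩, ?_⟩
      have h0 : e p * (c * x - c * y) = 0 := hker _ (by
        show π (c * x - c * y) = 0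
        rw [map_sub, map_mul, map_mul, sub_eq_zero]
        exact hcxy)
      rw [mul_sub, sub_eq_zero, ← mul_assoc, ← mul_assoc] at h0
      exact h0
  let φ := (IsLocalization.algEquiv P.primeCompl R (Localization.AtPrime P)).toRingEquiv
  have := isIntegrallyClosed_normC A p
  have hdom : IsDomain R := IsLocalization.isDomain_localization (P.map π).primeCompl_le_nonZeroDivisors
  have hic : IsIntegrallyClosed R :=
    isIntegrallyClosed_of_isLocalization R (P.map π).primeCompl (P.map π).primeCompl_le_nonZeroDivisors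
  exact ⟨φ.symm.toMulEquiv.isDomain, @IsIntegrallyClosed.of_equiv R (Localization.AtPrime P) _ _ φ hic⟩

/-- The normalization is finite as soon as that of every component is. -/
theorem finite_norm [IsNoetherianRing A]
    (h : ∀ p : MinP A, Module.Finite (A ⧸ p.1) (integralClosure (A ⧸ p.1) (FractionRing (A ⧸ p.1)))) :
    Module.Finite A (Norm A) := by
  classical
  have hfin : ∀ p : MinP A, Module.Finite A (NormC A p) := fun p => by
    have heq : Subalgebra.toSubmodule (NormC A p) =
        (Subalgebra.toSubmodule (integralClosure (A ⧸ p.1) (FractionRing (A ⧸ p.1)))).restrictScalars A := by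
      ext x
      exact ⟨fun hx => (hx : IsIntegral A x).tower_top, fun hx =>
        isIntegral_trans (A := A ⧸ p.1) x hx⟩
    have hfg := (Module.Finite.iff_fg
      (N := Subalgebra.toSubmodule (integralClosure (A ⧸ p.1) (FractionRing (A ⧸ p.1))))).1 (h p)
    refine Module.Finite.iff_fg.2 (show (Subalgebra.toSubmodule (NormC A p)).FG from ?_)
    rw [heq]
    exact hfg.restrictScalars_of_surjective Ideal.Quotient.mk_surjective
  refine Module.Finite.of_injective (LinearMap.pi fun p => (proj A p).toLinearMap) fun x y hxy =>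
    proj_ext A fun p => congrFun hxy p

/-- A local reduced Noetherian ring which equals its normalization is a domain. -/
theorem isDomain_of_surjective [IsNoetherianRing A] [IsLocalRing A]
    (h : Function.Surjective (algebraMap A (Norm A))) : IsDomain A := by
  classical
  choose e he he' using exists_idem A
  have hone : Subsingleton (MinP A) := by
    refine ⟨fun p q => by_contra fun hne => ?_⟩
    obtain ⟨a, ha⟩ := h (e p)
    have hp : a ∉ p.1 := fun hmem => one_ne_zero (α := FractionRing (A ⧸ p.1)) (by
      have h1 : toPi A (algebraMap A (FractionRing A) a) p = 1 := by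
        rw [show algebraMap A (FractionRing A) a = (e p : FractionRing A) from congrArg Subtype.val ha]
        exact congrArg Subtype.val (he p)
      rw [AlgHom.commutes] at h1
      by_contra h2
      exact (algebraMap_ne_zero_iff A p a).1 (by rw [Pi.algebraMap_apply] at h1; rw [h1]; exact one_ne_zero) hmem)
    have hq : a ∈ q.1 := by
      by_contra hmem
      refine (algebraMap_ne_zero_iff A q a).2 hmem ?_
      rw [← toPi_algebraMap A a,
        show algebraMap A (FractionRing A) a = (e p : FractionRing A) from congrArg Subtype.val ha]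
      exact congrArg Subtype.val (he' p q (Ne.symm hne))
    have hidem : a * (1 - a) ∈ p.1 := by
      by_contra hmem
      refine (algebraMap_ne_zero_iff A p _).2 hmem ?_
      have h1 : algebraMap A (FractionRing (A ⧸ p.1)) a = 1 := by
        rw [← toPi_algebraMap A a,
          show algebraMap A (FractionRing A) a = (e p : FractionRing A) from congrArg Subtype.val ha]
        exact congrArg Subtype.val (he p)
      rw [map_mul, map_sub, h1, map_one, sub_self, mul_zero]
    have h1a : 1 - a ∈ p.1 := (p.2.1.1.mem_or_mem hidem).resolve_left hp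
    rcases IsLocalRing.isUnit_or_isUnit_one_sub_self a with hu | hu
    · exact q.2.1.1.ne_top (Ideal.eq_top_of_isUnit_mem _ hq hu)
    · exact p.2.1.1.ne_top (Ideal.eq_top_of_isUnit_mem _ h1a hu)
  have hbot : (⊥ : Ideal A).IsPrime := by
    obtain ⟨p, hp, -⟩ := Ideal.exists_minimalPrimes_le (bot_le : (⊥ : Ideal A) ≤ IsLocalRing.maximalIdeal A)
    have : p = ⊥ := eq_bot_iff.2 fun x hx => eq_zero_of_forall_mem fun q =>
      Subsingleton.elim (⟨p, hp⟩ : MinP A) q ▸ hx
    exact this ▸ hp.1.1
  have : NoZeroDivisors A :=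
    ⟨fun {x y} h => (hbot.mem_or_mem (show x * y ∈ (⊥ : Ideal A) from h)).imp id id⟩
  exact NoZeroDivisors.to_isDomain A

end Groth.Agent.RedNorm
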